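import Cfsg.Agent.Lib.Helper57.J3Mult.C2.Defs

set_option autoImplicit false
set_option linter.unusedVariables false
set_option Elab.async false

namespace Cfsg.Agent.Lib.Helper57.J3Mult.C2

open Cfsg.Agent.Lib.Helper28.TC Cfsg.Agent.Lib.Helper28.TC2 Cfsg.Agent.Lib.Helper57.TCW

theorem F_blk0 : allRange (D.factP) 7 (0 * 2 ^ 7) = true := by decide +kernel
theorem F_blk1 : allRange (D.factP) 7 (1 * 2 ^ 7) = true := by decide +kernel
theorem F_blk2 : allRange (D.factP) 7 (2 * 2 ^ 7) = true := by decide +kernel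
theorem F_blk3 : allRange (D.factP) 7 (3 * 2 ^ 7) = true := by decide +kernel
theorem F_blk4 : allRange (D.factP) 7 (4 * 2 ^ 7) = true := by decide +kernel
theorem F_blk5 : allRange (D.factP) 7 (5 * 2 ^ 7) = true := by decide +kernel
theorem F_blk6 : allRange (D.factP) 7 (6 * 2 ^ 7) = true := by decide +kernel
theorem F_blk7 : allRange (D.factP) 7 (7 * 2 ^ 7) = true := by decide +kernel
theorem F_blk8 : allRange (D.factP) 7 (8 * 2 ^ 7) = true := by decide +kernel
theorem F_blk9 : allRange (D.factP) 7 (9 * 2 ^ 7) = true := by decide +kernel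
theorem F_blk10 : allRange (D.factP) 7 (10 * 2 ^ 7) = true := by decide +kernel
theorem F_blk11 : allRange (D.factP) 7 (11 * 2 ^ 7) = true := by decide +kernel
theorem F_f0 : ∀ k, 0 ≤ k → k < 12 → allRange (D.factP) 7 (k * 2 ^ 7) = true := by
  intro k h1 h2
  interval_cases k
  · exact F_blk0
  · exact F_blk1
  · exact F_blk2
  · exact F_blk3
  · exact F_blk4
  · exact F_blk5
  · exact F_blk6
  · exact F_blk7
  · exact F_blk8
  · exact F_blk9
  · exact F_blk10
  · exact F_blk11

end Cfsg.Agent.Lib.Helper57.J3Mult.C2
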