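import Cfsg.Agent.Lib.Helper57.J3Mult.C2.Defs

set_option autoImplicit false
set_option linter.unusedVariables false
set_option Elab.async false

namespace Cfsg.Agent.Lib.Helper57.J3Mult.C2

open Cfsg.Agent.Lib.Helper28.TC Cfsg.Agent.Lib.Helper28.TC2 Cfsg.Agent.Lib.Helper57.TCW

theorem F_blk12 : allRange (D.factP) 7 (12 * 2 ^ 7) = true := by decide +kernel
theorem F_blk13 : allRange (D.factP) 7 (13 * 2 ^ 7) = true := by decide +kernel
theorem F_blk14 : allRange (D.factP) 7 (14 * 2 ^ 7) = true := by decide +kernel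
theorem F_blk15 : allRange (D.factP) 7 (15 * 2 ^ 7) = true := by decide +kernel
theorem F_blk16 : allRange (D.factP) 7 (16 * 2 ^ 7) = true := by decide +kernel
theorem F_blk17 : allRange (D.factP) 7 (17 * 2 ^ 7) = true := by decide +kernel
theorem F_blk18 : allRange (D.factP) 7 (18 * 2 ^ 7) = true := by decide +kernel
theorem F_blk19 : allRange (D.factP) 7 (19 * 2 ^ 7) = true := by decide +kernel
theorem F_blk20 : allRange (D.factP) 7 (20 * 2 ^ 7) = true := by decide +kernel
theorem F_blk21 : allRange (D.factP) 7 (21 * 2 ^ 7) = true := by decide +kernel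
theorem F_blk22 : allRange (D.factP) 7 (22 * 2 ^ 7) = true := by decide +kernel
theorem F_blk23 : allRange (D.factP) 7 (23 * 2 ^ 7) = true := by decide +kernel
theorem F_f1 : ∀ k, 12 ≤ k → k < 24 → allRange (D.factP) 7 (k * 2 ^ 7) = true := by
  intro k h1 h2
  interval_cases k
  · exact F_blk12
  · exact F_blk13
  · exact F_blk14
  · exact F_blk15
  · exact F_blk16
  · exact F_blk17
  · exact F_blk18
  · exact F_blk19
  · exact F_blk20
  · exact F_blk21
  · exact F_blk22
  · exact F_blk23

end Cfsg.Agent.Lib.Helper57.J3Mult.C2
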