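import Cfsg.Agent.Lib.Helper57.J3Mult.C2.Defs

set_option autoImplicit false
set_option linter.unusedVariables false
set_option Elab.async false

namespace Cfsg.Agent.Lib.Helper57.J3Mult.C2

open Cfsg.Agent.Lib.Helper28.TC Cfsg.Agent.Lib.Helper28.TC2 Cfsg.Agent.Lib.Helper57.TCW

theorem F_blk24 : allRange (D.factP) 7 (24 * 2 ^ 7) = true := by decide +kernel
theorem F_blk25 : allRange (D.factP) 7 (25 * 2 ^ 7) = true := by decide +kernel
theorem F_blk26 : allRange (D.factP) 7 (26 * 2 ^ 7) = true := by decide +kernel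
theorem F_blk27 : allRange (D.factP) 7 (27 * 2 ^ 7) = true := by decide +kernel
theorem F_blk28 : allRange (D.factP) 7 (28 * 2 ^ 7) = true := by decide +kernel
theorem F_blk29 : allRange (D.factP) 7 (29 * 2 ^ 7) = true := by decide +kernel
theorem F_blk30 : allRange (D.factP) 7 (30 * 2 ^ 7) = true := by decide +kernel
theorem F_blk31 : allRange (D.factP) 7 (31 * 2 ^ 7) = true := by decide +kernel
theorem F_blk32 : allRange (D.factP) 7 (32 * 2 ^ 7) = true := by decide +kernel
theorem F_blk33 : allRange (D.factP) 7 (33 * 2 ^ 7) = true := by decide +kernel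
theorem F_blk34 : allRange (D.factP) 7 (34 * 2 ^ 7) = true := by decide +kernel
theorem F_blk35 : allRange (D.factP) 7 (35 * 2 ^ 7) = true := by decide +kernel
theorem F_f2 : ∀ k, 24 ≤ k → k < 36 → allRange (D.factP) 7 (k * 2 ^ 7) = true := by
  intro k h1 h2
  interval_cases k
  · exact F_blk24
  · exact F_blk25
  · exact F_blk26
  · exact F_blk27
  · exact F_blk28
  · exact F_blk29
  · exact F_blk30
  · exact F_blk31
  · exact F_blk32
  · exact F_blk33
  · exact F_blk34
  · exact F_blk35

end Cfsg.Agent.Lib.Helper57.J3Mult.C2
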