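import Cfsg.Agent.Lib.Helper57.J3Mult.C2.Defs

set_option autoImplicit false
set_option linter.unusedVariables false
set_option Elab.async false

namespace Cfsg.Agent.Lib.Helper57.J3Mult.C2

open Cfsg.Agent.Lib.Helper28.TC Cfsg.Agent.Lib.Helper28.TC2 Cfsg.Agent.Lib.Helper57.TCW

theorem F_blk36 : allRange (D.factP) 7 (36 * 2 ^ 7) = true := by decide +kernel
theorem F_blk37 : allRange (D.factP) 7 (37 * 2 ^ 7) = true := by decide +kernel
theorem F_blk38 : allRange (D.factP) 7 (38 * 2 ^ 7) = true := by decide +kernel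
theorem F_blk39 : allRange (D.factP) 7 (39 * 2 ^ 7) = true := by decide +kernel
theorem F_blk40 : allRange (D.factP) 7 (40 * 2 ^ 7) = true := by decide +kernel
theorem F_blk41 : allRange (D.factP) 7 (41 * 2 ^ 7) = true := by decide +kernel
theorem F_blk42 : allRange (D.factP) 7 (42 * 2 ^ 7) = true := by decide +kernel
theorem F_blk43 : allRange (D.factP) 7 (43 * 2 ^ 7) = true := by decide +kernel
theorem F_blk44 : allRange (D.factP) 7 (44 * 2 ^ 7) = true := by decide +kernel
theorem F_f3 : ∀ k, 36 ≤ k → k < 45 → allRange (D.factP) 7 (k * 2 ^ 7) = true := by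
  intro k h1 h2
  interval_cases k
  · exact F_blk36
  · exact F_blk37
  · exact F_blk38
  · exact F_blk39
  · exact F_blk40
  · exact F_blk41
  · exact F_blk42
  · exact F_blk43
  · exact F_blk44

end Cfsg.Agent.Lib.Helper57.J3Mult.C2
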