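import Cfsg.Agent.Lib.Helper57.J3Mult.C2.Defs

set_option autoImplicit false
set_option linter.unusedVariables false
set_option Elab.async false

namespace Cfsg.Agent.Lib.Helper57.J3Mult.C2

open Cfsg.Agent.Lib.Helper28.TC Cfsg.Agent.Lib.Helper28.TC2 Cfsg.Agent.Lib.Helper57.TCW

theorem P_blk0 : allRange (guard nn D.permP) 7 (0 * 2 ^ 7) = true := by decide +kernel
theorem P_blk1 : allRange (guard nn D.permP) 7 (1 * 2 ^ 7) = true := by decide +kernel
theorem P_blk2 : allRange (guard nn D.permP) 7 (2 * 2 ^ 7) = true := by decide +kernel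
theorem P_blk3 : allRange (guard nn D.permP) 7 (3 * 2 ^ 7) = true := by decide +kernel
theorem P_f0 : ∀ k, 0 ≤ k → k < 4 → allRange (guard nn D.permP) 7 (k * 2 ^ 7) = true := by
  intro k h1 h2
  interval_cases k
  · exact P_blk0
  · exact P_blk1
  · exact P_blk2
  · exact P_blk3

end Cfsg.Agent.Lib.Helper57.J3Mult.C2
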