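import Cfsg.Agent.Lib.Helper57.J3Mult.C2.Mat

set_option autoImplicit false
set_option linter.unusedVariables false
set_option Elab.async false

namespace Cfsg.Agent.Lib.Helper57.J3Mult.C2

open Cfsg.Agent.Lib.Helper28.TC Cfsg.Agent.Lib.Helper28.TC2 Cfsg.Agent.Lib.Helper57.TCW
open Cfsg.Agent.Lib.Helper93.J3 Cfsg.Agent.Lib.Helper57.J3Mult

theorem V_blk8 : allRange (guard nn (M.vecP D)) 7 (8 * 2 ^ 7) = true := by decide +kernel
theorem V_blk9 : allRange (guard nn (M.vecP D)) 7 (9 * 2 ^ 7) = true := by decide +kernel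
theorem V_blk10 : allRange (guard nn (M.vecP D)) 7 (10 * 2 ^ 7) = true := by decide +kernel
theorem V_blk11 : allRange (guard nn (M.vecP D)) 7 (11 * 2 ^ 7) = true := by decide +kernel
theorem V_blk12 : allRange (guard nn (M.vecP D)) 7 (12 * 2 ^ 7) = true := by decide +kernel
theorem V_blk13 : allRange (guard nn (M.vecP D)) 7 (13 * 2 ^ 7) = true := by decide +kernel
theorem V_blk14 : allRange (guard nn (M.vecP D)) 7 (14 * 2 ^ 7) = true := by decide +kernel
theorem V_f1 : ∀ k, 8 ≤ k → k < 15 → allRange (guard nn (M.vecP D)) 7 (k * 2 ^ 7) = true := by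
  intro k h1 h2
  interval_cases k
  · exact V_blk8
  · exact V_blk9
  · exact V_blk10
  · exact V_blk11
  · exact V_blk12
  · exact V_blk13
  · exact V_blk14

end Cfsg.Agent.Lib.Helper57.J3Mult.C2
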