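import Cfsg.Agent.Lib.Helper57.J3Mult.C2.Data

set_option autoImplicit false
set_option linter.unusedVariables false

namespace Cfsg.Agent.Lib.Helper57.J3Mult.C2

open Cfsg.Agent.Lib.Helper28.TC Cfsg.Agent.Lib.Helper28.TC2 Cfsg.Agent.Lib.Helper57.TCW

/-- the relator words -/
def relW : List (List L4) := [[L4.a, L4.a, L4.bi, L4.a, L4.b, L4.a, L4.a, L4.bi, L4.a, L4.b], [L4.b, L4.b, L4.b, L4.b, L4.b], [L4.ai, L4.bi, L4.a, L4.bi, L4.bi, L4.ai, L4.bi, L4.a, L4.bi, L4.bi], [L4.ai, L4.ai, L4.b, L4.a, L4.bi, L4.bi, L4.ai, L4.ai, L4.b, L4.a, L4.bi, L4.bi], [L4.a, L4.a, L4.a, L4.a, L4.a], [L4.a, L4.a, L4.bi, L4.bi, L4.a, L4.bi, L4.a, L4.a, L4.bi, L4.bi, L4.a, L4.bi]]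

/-- the cycles -/
def cyc : List (List L4 × List L4 × List L4 × ℕ) := [
  ([L4.a, L4.a, L4.bi, L4.a, L4.b, L4.a, L4.a, L4.bi, L4.a, L4.b], [L4.b, L4.a, L4.bi, L4.a, L4.a, L4.b, L4.a, L4.bi, L4.a, L4.a], [L4.ai, L4.ai, L4.b, L4.ai, L4.bi, L4.ai, L4.ai, L4.b, L4.ai, L4.bi], 10),
  ([L4.b, L4.b, L4.b, L4.b, L4.b], [L4.b, L4.b, L4.b, L4.b, L4.b], [L4.bi, L4.bi, L4.bi, L4.bi, L4.bi], 5),
  ([L4.ai, L4.bi, L4.a, L4.bi, L4.bi, L4.ai, L4.bi, L4.a, L4.bi, L4.bi], [L4.bi, L4.bi, L4.a, L4.bi, L4.ai, L4.bi, L4.bi, L4.a, L4.bi, L4.ai], [L4.a, L4.b, L4.ai, L4.b, L4.b, L4.a, L4.b, L4.ai, L4.b, L4.b], 10),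
  ([L4.ai, L4.ai, L4.b, L4.a, L4.bi, L4.bi, L4.ai, L4.ai, L4.b, L4.a, L4.bi, L4.bi], [L4.bi, L4.bi, L4.a, L4.b, L4.ai, L4.ai, L4.bi, L4.bi, L4.a, L4.b, L4.ai, L4.ai], [L4.a, L4.a, L4.bi, L4.ai, L4.b, L4.b, L4.a, L4.a, L4.bi, L4.ai, L4.b, L4.b], 12),
  ([L4.a, L4.a, L4.a, L4.a, L4.a], [L4.a, L4.a, L4.a, L4.a, L4.a], [L4.ai, L4.ai, L4.ai, L4.ai, L4.ai], 5),
  ([L4.a, L4.a, L4.bi, L4.bi, L4.a, L4.bi, L4.a, L4.a, L4.bi, L4.bi, L4.a, L4.bi], [L4.bi, L4.a, L4.bi, L4.bi, L4.a, L4.a, L4.bi, L4.a, L4.bi, L4.bi, L4.a, L4.a], [L4.ai, L4.ai, L4.b, L4.b, L4.ai, L4.b, L4.ai, L4.ai, L4.b, L4.b, L4.ai, L4.b], 12)]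

noncomputable def entH (y : L4) (u : ℕ) : ℕ := L4.rec (motive := fun _ => ℕ) (hotE0 u) (hotE1 u) (hotE2 u) (hotE3 u) y
noncomputable def jEc (y : L4) (u : ℕ) : ℕ := L4.rec (motive := fun _ => ℕ) (coldE0 u) (coldE1 u) (coldE2 u) (coldE3 u) y
noncomputable def tf (y : L4) (u : ℕ) : ℕ := L4.rec (motive := fun _ => ℕ) (tfT0 u) (tfT1 u) (tfT2 u) (tfT3 u) y
def NN : ℕ := 5748
def nn : ℕ := 1920
def RR : ℕ := 21100
def NNpad : ℕ := 5760

/-- the certificate -/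
noncomputable def C : Cert L4 where
  par := fun k => Nat.land (treeT k) 262143
  gn := fun k => ltrOf (Nat.land (Nat.shiftRight (treeT k) 18) 15)
  ent := fun x u => below NN u (Nat.land (entH x u) 262143)
  rkE := fun x u => Nat.shiftRight (entH x u) 18
  jEk := fun x u => Nat.land (jEc x u) 3
  jEa := fun x u => Nat.land (Nat.shiftRight (jEc x u) 2) 262143
  jEp := fun x u => Nat.land (Nat.shiftRight (jEc x u) 20) 255
  jEz := fun x u => Nat.shiftRight (jEc x u) 28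
  al := fun k => below NN k (Nat.land (hotA k) 262143)
  rkA := fun k => Nat.shiftRight (hotA k) 18
  jAx := fun k => ltrOf (Nat.land (coldA k) 15)
  jA1k := fun k => Nat.land (Nat.shiftRight (coldA k) 4) 3
  jA1a := fun k => Nat.land (Nat.shiftRight (coldA k) 6) 262143
  jA1p := fun k => Nat.land (Nat.shiftRight (coldA k) 24) 255
  jA1z := fun k => Nat.land (Nat.shiftRight (coldA k) 32) 262143
  jA2k := fun k => Nat.land (Nat.shiftRight (coldA k) 50) 3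
  jA2a := fun k => Nat.land (Nat.shiftRight (coldA k) 52) 262143
  jA2p := fun k => Nat.land (Nat.shiftRight (coldA k) 70) 255
  jA2z := fun k => Nat.land (Nat.shiftRight (coldA k) 78) 262143
  cycW := fun ci => (nthD cyc ci ([], [], [], 0)).1
  cycR := fun ci => (nthD cyc ci ([], [], [], 0)).2.1
  cycL := fun ci => (nthD cyc ci ([], [], [], 0)).2.2.2
  cycA := fun _ => false
  fuel := 4

/-- the data of the enumeration -/
noncomputable def D : Data where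
  relW := relW
  cyc := cyc
  n := nn
  N := NN
  Npad := NNpad
  R := RR
  C := C
  tf := tf
  fin := fun k => Nat.shiftRight (treeT k) 22
  rowOf := rowT

end Cfsg.Agent.Lib.Helper57.J3Mult.C2
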